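import Groth.Agent.L12.HypInvol.Unique
import Groth.Agent.L12.SymSq.Decomp
import Groth.Agent.L21.RR.IdealTwist
import Groth.Agent.L21.RR.VeryAmple
import Groth.Agent.L21.CurveTop
import Groth.Agent.L21.Disc.SuppLength

/-! The fixed scheme of an involution of a curve is a reduced finite set of points. -/

set_option autoImplicit false
set_option linter.style.haveILetI false
set_option linter.unusedSectionVars false
set_option backward.isDefEq.respectTransparency false
set_option backward.isDefEq.respectTransparency.types false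

universe u

open CategoryTheory CategoryTheory.Limits AlgebraicGeometry TopologicalSpace Opposite IsLocalRing

noncomputable section

namespace Groth.L12.HypInvol

open Groth.L12.HypSq (Sq graph)
open Groth.L12.SymSq (IsFixedScheme)

/-- An involution of a local ring congruent to the identity modulo the square of the maximal ideal is the identity. -/
theorem eq_id_of_sub_mem_sq {B : Type u} [CommRing B] [IsLocalRing B] [IsNoetherianRing B] (h2 : IsUnit (2 : B))
    (s : B →+* B) (hinv : ∀ b, s (s b) = b) (hs : ∀ b, s b - b ∈ (maximalIdeal B) ^ 2) (b : B) : s b = b := by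
  have hloc : ∀ (n : ℕ) (b : B), b ∈ maximalIdeal B ^ n → s b - b ∈ maximalIdeal B ^ (n + 1) := by
    intro n
    induction n with
    | zero => exact fun b _ => Ideal.pow_le_pow_right (by norm_num) (hs b)
    | succ n ih =>
      intro b hb
      rw [pow_succ] at hb
      refine Submodule.mul_induction_on hb ?_ fun x y hx hy => ?_
      · intro a ha c hc
        have hsc : s c ∈ maximalIdeal B := by
          have := Ideal.pow_le_self two_ne_zero (hs c)
          simpa using add_mem this hc
        have e : s (a * c) - a * c = (s a - a) * s c + a * (s c - c) := by rw [map_mul]; ring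
        rw [e]
        refine add_mem ?_ ?_
        · rw [pow_succ (maximalIdeal B) (n + 1)]
          exact Ideal.mul_mem_mul (ih a ha) hsc
        · rw [show n + 1 + 1 = n + 2 from rfl, pow_add]
          exact Ideal.mul_mem_mul ha (hs c)
      · rw [map_add, show s x + s y - (x + y) = (s x - x) + (s y - y) by ring]
        exact add_mem hx hy
  have key : ∀ n : ℕ, s b - b ∈ maximalIdeal B ^ n := by
    intro n
    induction n with
    | zero => simp
    | succ n ih =>
      have h1 := hloc n _ ih
      rw [map_sub, hinv] at h1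
      have h3 : b - s b - (s b - b) = 2 * (b - s b) := by ring
      rw [h3] at h1
      rw [← neg_sub]
      exact neg_mem ((Ideal.unit_mul_mem_iff_mem _ h2).1 h1)
  have h := Ideal.iInf_pow_eq_bot_of_isLocalRing (maximalIdeal B) (IsLocalRing.maximalIdeal.isMaximal B).ne_top
  exact sub_eq_zero.1 (by rw [← Ideal.mem_bot, ← h, Ideal.mem_iInf]; exact key)

variable {k : Type u} [Field k] {X : Scheme.{u}} [X.Over (Spec (CommRingCat.of k))]
  [IsProper (X ↘ Spec (CommRingCat.of k))] {σ : X ⟶ X}
  (hσp : σ ≫ (X ↘ Spec (CommRingCat.of k)) = X ↘ Spec (CommRingCat.of k))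

/-- The fixed scheme, as the intersection of the graph with the diagonal. -/
abbrev fix : Scheme.{u} := pullback (graph (k := k) (f := 𝟙 X) (Category.id_comp _)) (graph hσp)

/-- The inclusion of the fixed scheme. -/
abbrev fixι : fix hσp ⟶ X := pullback.fst _ _

theorem fix_snd : pullback.snd (graph (k := k) (f := 𝟙 X) (Category.id_comp _)) (graph hσp) = fixι hσp := by
  have h := congrArg (· ≫ pullback.fst (X ↘ Spec (CommRingCat.of k)) (X ↘ Spec (CommRingCat.of k)))
    (pullback.condition (f := graph (k := k) (f := 𝟙 X) (Category.id_comp _)) (g := graph hσp))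
  simpa using h.symm

theorem isFixedScheme_fix : IsFixedScheme σ (fixι hσp) where
  immersion := inferInstance
  comp := by
    have h := congrArg (· ≫ pullback.snd (X ↘ Spec (CommRingCat.of k)) (X ↘ Spec (CommRingCat.of k)))
      (pullback.condition (f := graph (k := k) (f := 𝟙 X) (Category.id_comp _)) (g := graph hσp))
    simp only [Category.assoc, pullback.lift_snd, fix_snd] at h
    rw [← h]
    exact Category.comp_id _
  univ f hf := ⟨pullback.lift f f (by
    apply pullback.hom_ext
    · simp
    · simp only [Category.assoc, pullback.lift_snd]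
      rw [Category.comp_id, hf]), pullback.lift_fst _ _ _⟩

variable (hσ1 : σ ≠ 𝟙 X) [IsIntegral X]

include hσ1 in
theorem range_fix_ne_univ : Set.range (fixι hσp) ≠ Set.univ := fun h => hσ1 <| by
  haveI : Surjective (fixι hσp) := ⟨Set.range_eq_univ.1 h⟩
  haveI : IsIso (fixι hσp) := isIso_of_isClosedImmersion_of_surjective _
  rw [← cancel_epi (fixι hσp), (isFixedScheme_fix hσp).comp, Category.comp_id]

theorem fix_fixed (d : ↥(fix hσp)) : σ (fixι hσp d) = fixι hσp d := by
  rw [← Scheme.Hom.comp_apply, (isFixedScheme_fix hσp).comp]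

variable [Smooth (X ↘ Spec (CommRingCat.of k))] [IsAlgClosed k] (hdim : topologicalKrullDim ↥X = 1)

include hσ1 hdim in
theorem finite_range_fix :
    (Set.range (fixι hσp)).Finite ∧ ∀ x ∈ Set.range (fixι hσp), IsClosed ({x} : Set X) := by
  haveI := Groth.L21.RR.isNoetherian_of_proper (X := X) k
  exact Groth.L21.CurveTop.finite_of_isClosed hdim.le (fixι hσp).isClosedEmbedding.isClosed_range
    (range_fix_ne_univ hσp hσ1)

include hσ1 in
theorem genericPoint_notMem : genericPoint X ∉ ((fixι hσp).ker.support : Set X) := by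
  rw [Scheme.Hom.support_ker, (fixι hσp).isClosedEmbedding.isClosed_range.closure_eq]
  intro h
  refine range_fix_ne_univ hσp hσ1 (Set.eq_univ_of_univ_subset ?_)
  rw [← (genericPoint_spec X).def]
  exact (fixι hσp).isClosedEmbedding.isClosed_range.closure_subset_iff.2 (Set.singleton_subset_iff.2 h)

variable (hinvol : σ ≫ σ = 𝟙 X) (h2 : (2 : k) ≠ 0)

include hσ1 hinvol h2 hdim in
/-- The local rings of the fixed scheme are fields. -/
theorem isField_stalk_fix (d : ↥(fix hσp)) : IsField ((fix hσp).presheaf.stalk d) := by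
    haveI := Groth.L21.RR.isNoetherian_of_proper (X := X) k
    set x := fixι hσp d
    have hx : σ x = x := fix_fixed hσp d
    let B := X.presheaf.stalk x
    haveI : IsDedekindDomain B := Groth.L21.isDedekindDomain_stalk_of_normal hdim.le (fun y =>
      ⟨Groth.L21.Smooth.isDomain_stalk (X ↘ Spec (CommRingCat.of k)) y,
        Groth.L21.Smooth.isIntegrallyClosed_stalk (X ↘ Spec (CommRingCat.of k)) y⟩) x
    haveI : IsLocalRing B := inferInstance
    let sh : X.presheaf.stalk x ⟶ X.presheaf.stalk x :=
      X.presheaf.stalkSpecializes (specializes_of_eq hx) ≫ σ.stalkMap x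
    have hsh : ∀ (U : X.Opens) (hxU : x ∈ U) (b : Γ(X, U)),
        sh (X.presheaf.germ U x hxU b) = X.presheaf.germ (σ ⁻¹ᵁ U) x (show σ x ∈ U by rwa [hx]) (σ.app U b) := by
      intro U hxU b
      show σ.stalkMap x (X.presheaf.stalkSpecializes _ (X.presheaf.germ U x hxU b)) = _
      rw [TopCat.Presheaf.germ_stalkSpecializes_apply, Scheme.Hom.germ_stalkMap_apply]
    have hinv : ∀ b, sh (sh b) = b := by
      intro b
      obtain ⟨U, hxU, a, rfl⟩ := X.presheaf.exists_germ_eq b
      rw [hsh U hxU a, hsh _ _ _]
      have e := Scheme.Hom.congr_app hinvol U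
      have e' := congr($e a)
      simp only [Scheme.Hom.comp_app, CommRingCat.comp_apply] at e'
      refine Eq.trans (congrArg _ e') ?_
      exact TopCat.Presheaf.germ_res_apply _ _ _ _ _
    let q := (fixι hσp).stalkMap d
    have hqs : ∀ b, q (sh b) = q b := by
      intro b
      obtain ⟨U, hxU, a, rfl⟩ := X.presheaf.exists_germ_eq b
      rw [hsh U hxU a, Scheme.Hom.germ_stalkMap_apply, Scheme.Hom.germ_stalkMap_apply]
      have e := Scheme.Hom.congr_app (isFixedScheme_fix hσp).comp U
      have e' := congr($e a)
      simp only [Scheme.Hom.comp_app, CommRingCat.comp_apply] at e'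
      refine Eq.trans (congrArg _ e') ?_
      exact TopCat.Presheaf.germ_res_apply _ _ _ _ _
    have hm : ∀ b, sh b - b ∈ maximalIdeal B := fun b hu => by
      have := hu.map q.hom
      rw [map_sub, hqs, sub_self] at this
      exact not_isUnit_zero this
    have hu2 : IsUnit (2 : B) := by
      have hu : IsUnit (2 : k) := isUnit_iff_ne_zero.2 h2
      have := hu.map (((Scheme.ΓSpecIso (CommRingCat.of k)).inv ≫ (X ↘ Spec (CommRingCat.of k)).appTop ≫
        X.presheaf.germ ⊤ x trivial).hom)
      rwa [map_ofNat] at this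
    obtain ⟨b, hb⟩ : ∃ b, sh b - b ∉ maximalIdeal B ^ 2 := by
      by_contra hall
      push Not at hall
      have hid : sh = 𝟙 _ := CommRingCat.hom_ext (RingHom.ext fun b => eq_id_of_sub_mem_sq hu2 sh.hom hinv hall b)
      have hf : X.fromSpecStalk x ≫ σ = X.fromSpecStalk x := by
        rw [← Scheme.SpecMap_stalkMap_fromSpecStalk, ← Scheme.SpecMap_stalkSpecializes_fromSpecStalk
          (specializes_of_eq hx), ← Category.assoc, ← Spec.map_comp]
        rw [show X.presheaf.stalkSpecializes _ ≫ σ.stalkMap x = sh from rfl, hid, Spec.map_id, Category.id_comp]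
      obtain ⟨g, hg⟩ := (isFixedScheme_fix hσp).univ _ hf
      obtain ⟨z, hz⟩ : genericPoint X ∈ Set.range (X.fromSpecStalk x) := by
        rw [Scheme.range_fromSpecStalk]
        exact (genericPoint_spec X).specializes trivial
      refine genericPoint_notMem hσp hσ1 ?_
      rw [Scheme.Hom.support_ker]
      exact subset_closure ⟨g z, by rw [← Scheme.Hom.comp_apply, hg, hz]⟩
    obtain ⟨t, ht⟩ := IsPrincipalIdealRing.principal (maximalIdeal B)
    rw [← Ideal.span] at ht
    obtain ⟨v, hv⟩ := Ideal.mem_span_singleton'.1 (ht ▸ hm b)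
    have hvu : IsUnit v := by
      by_contra hnu
      refine hb ?_
      rw [← hv, pow_two]
      exact Ideal.mul_mem_mul hnu (ht ▸ Ideal.mem_span_singleton_self t)
    have hle : maximalIdeal B ≤ RingHom.ker q.hom := by
      rw [ht, Ideal.span_singleton_le_iff_mem, RingHom.mem_ker]
      have := hqs b
      rw [← sub_eq_zero, ← map_sub, ← hv, map_mul] at this
      exact (hvu.map q.hom).mul_right_eq_zero.1 this
    have hsurj : Function.Surjective q.hom := (fixι hσp).stalkMap_surjective d
    haveI : (RingHom.ker q.hom).IsMaximal := by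
      rw [← le_antisymm hle (IsLocalRing.le_maximalIdeal (RingHom.ker_ne_top q.hom))]
      exact IsLocalRing.maximalIdeal.isMaximal B
    exact (RingHom.quotientKerEquivOfSurjective hsurj).symm.toMulEquiv.isField
      ((Ideal.Quotient.maximal_ideal_iff_isField_quotient _).1 inferInstance)

include hσ1 hinvol h2 hdim in
/-- The fixed scheme is reduced. -/
theorem isReduced_fix : IsReduced (fix hσp) := by
  haveI : ∀ d : ↥(fix hσp), _root_.IsReduced ((fix hσp).presheaf.stalk d) := fun d => by
    haveI := (isField_stalk_fix hσp hσ1 hdim hinvol h2 d).isDomain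
    infer_instance
  exact isReduced_of_isReduced_stalk _

include hσ1 hdim in
/-- The fixed closed points are the points of the fixed scheme. -/
theorem card_fix : Nat.card ↥(fix hσp) = Nat.card {x : X // IsClosed ({x} : Set X) ∧ σ x = x} := by
  refine Nat.card_congr (Equiv.ofBijective
    (fun d => ⟨fixι hσp d, (finite_range_fix hσp hσ1 hdim).2 _ ⟨d, rfl⟩, fix_fixed hσp d⟩) ⟨fun a b h => ?_, ?_⟩)
  · exact (fixι hσp).isClosedEmbedding.injective (congrArg Subtype.val h)
  · rintro ⟨x, hxc, hxσ⟩
    let w := pointOfClosedPoint (X ↘ Spec (CommRingCat.of k)) x hxc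
    have hw := pointOfClosedPoint_comp (X ↘ Spec (CommRingCat.of k)) x hxc
    have hσw : w ≫ σ = w := by
      haveI : LocallyOfFiniteType ((w ≫ σ) ≫ (X ↘ Spec (CommRingCat.of k))) := by
        rw [Category.assoc, hσp, hw]; infer_instance
      refine ext_of_apply_eq (X ↘ Spec (CommRingCat.of k)) Set.univ isOpen_univ.isLocallyClosed dense_univ
        (fun z _ _ => ?_) (by rw [Category.assoc, hσp])
      rw [Scheme.Hom.comp_apply, pointOfClosedPoint_apply, hxσ]
    obtain ⟨g, hg⟩ := (isFixedScheme_fix hσp).univ w hσw
    refine ⟨g (IsLocalRing.closedPoint k), Subtype.ext ?_⟩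
    show fixι hσp (g _) = x
    rw [← Scheme.Hom.comp_apply, hg]
    exact pointOfClosedPoint_apply _ x hxc _

include hσ1 hdim in
theorem isInvertible_fix : PicF.IsInvertible (ClSub.idealMod (fixι hσp).ker) :=
  Groth.L21.RR.isInvertible_idealMod (k := k) hdim _ (genericPoint_notMem hσp hσ1)

include hσ1 hinvol h2 hdim in
/-- The degree of the ideal of the fixed scheme. -/
theorem deg_fix : Curv2.deg k X (ClSub.idealMod (fixι hσp).ker) 1 = -(Nat.card ↥(fix hσp) : ℤ) := by
  letI : (fix hσp).Over (Spec (CommRingCat.of k)) := ⟨fixι hσp ≫ (X ↘ Spec (CommRingCat.of k))⟩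
  haveI : IsProper ((fix hσp) ↘ Spec (CommRingCat.of k)) :=
    inferInstanceAs (IsProper (fixι hσp ≫ (X ↘ Spec (CommRingCat.of k))))
  haveI := Groth.L21.RR.isNoetherian_of_proper (X := fix hσp) k
  haveI := isReduced_fix hσp hσ1 hdim hinvol h2
  haveI : X.IsSeparated := ⟨by
    rw [show terminal.from X = (X ↘ Spec (CommRingCat.of k)) ≫ terminal.from _ from terminal.hom_ext _ _]
    infer_instance⟩
  have hfin := finite_range_fix hσp hσ1 hdim
  have hemb := (fixι hσp).isClosedEmbedding
  haveI : Finite ↥(fix hσp) :=
    haveI := hfin.1.to_subtype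
    Finite.of_injective (fun d => (⟨fixι hσp d, ⟨d, rfl⟩⟩ : Set.range (fixι hσp)))
      fun a b h => hemb.injective (congrArg Subtype.val h)
  have hcl : ∀ d : ↥(fix hσp), IsClosed ({d} : Set ↥(fix hσp)) := fun d => by
    have := (hfin.2 _ ⟨d, rfl⟩).preimage hemb.continuous
    convert this using 1
    ext y
    simp [hemb.injective.eq_iff]
  have hO := Groth.L18.Ample.isInvertible_structureModule (fix hσp)
  letI := Fintype.ofFinite ↥(fix hσp)
  have h0 : Groth.L21.RR.h k 0 (Coh.structureModule (fix hσp)) = Nat.card ↥(fix hσp) := by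
    rw [Groth.L21.Disc.h0_eq_sum_length k (Groth.L16.ProperFinite.isCoh_of_isInvertible hO) Finset.univ
      (fun d _ => hcl d) (fun d hd => absurd (Finset.mem_univ d) hd), Nat.card_eq_fintype_card]
    refine (Finset.sum_congr rfl fun d _ => ?_).trans (Finset.sum_const_nat (m := 1) fun _ _ => rfl) |>.trans (by simp)
    obtain ⟨e, he⟩ := Groth.L21.RR.exists_frame_stalk hO d
    haveI : IsSimpleModule ((fix hσp).presheaf.stalk d) ((fix hσp).presheaf.stalk d) := by
      have hfield := isField_stalk_fix hσp hσ1 hdim hinvol h2 d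
      rw [isSimpleModule_self_iff_isUnit]
      haveI := hfield.nontrivial
      exact ⟨inferInstance, fun a ha => by
        obtain ⟨b, hb⟩ := hfield.mul_inv_cancel ha
        exact IsUnit.of_mul_eq_one b hb⟩
    rw [Groth.L21.RR.finrank_residueField_eq_one k (hcl d), mul_one,
      ← (LinearEquiv.ofBijective (LinearMap.toSpanSingleton ((fix hσp).presheaf.stalk d)
        ((Coh.structureModule (fix hσp)).presheaf.stalk d) e) he).length_eq, Module.length_eq_one]
    rfl
  have hs : Groth.L21.RR.SuppClosed (Coh.structureModule (fix hσp)) := fun d hd => absurd (hcl d) hd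
  have h1 := Groth.L12.HypSq.euler_step (k := k) (fixι hσp) (Groth.L18.Ample.isInvertible_structureModule X) rfl
    (isInvertible_fix hσp hσ1 hdim) (Groth.L00.Tensor.tensorUnitLeft _)
  rw [Groth.L21.RR.euler_congr k (Groth.L29.LocFree.pullbackUnitIso (fixι hσp)),
    Groth.L21.RR.euler_eq_h0_of_suppClosed k hs, h0] at h1
  rw [Curv2.deg]
  push_cast
  linarith

end Groth.L12.HypInvol
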