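import Groth.Agent.L12.HypInvol.Quot
import Groth.Agent.L21.P1.DoubleCoverApply
import Groth.Agent.L13.DblCovScheme
import Groth.Agent.L12.SymSq.Setup

/-! Hyperelliptic curves are the curves with an involution having 2g+2 fixed points. -/

set_option autoImplicit false
set_option linter.style.haveILetI false
set_option linter.unusedSectionVars false
set_option backward.isDefEq.respectTransparency false
set_option backward.isDefEq.respectTransparency.types false

universe u

open CategoryTheory CategoryTheory.Limits AlgebraicGeometry TopologicalSpace Opposite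

noncomputable section

namespace Groth.L12.HypInvol

open Groth.L18.PUP (P pr)
open Groth.L21.RR (euler_congr deg_congr)
open Groth.L21.P1 (O)
open Groth.L21.Disc (overMap)

variable {k : Type u} [Field k] [IsAlgClosed k] {C : Scheme.{u}} [C.Over (Spec (CommRingCat.of k))]
  [IsProper (C ↘ Spec (CommRingCat.of k))] [Smooth (C ↘ Spec (CommRingCat.of k))] [ConnectedSpace ↥C]
  (hdim : topologicalKrullDim ↥C = 1) (h2 : (2 : k) ≠ 0)

include hdim h2 in
/-- The involution of a double cover of the line has 2g+2 fixed points. -/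
theorem exists_involution_of_cover (f : C ⟶ CohB1.ProjSpace 1 k) [IsFinite f] [Flat f]
    (hf : f ≫ CohB1.ProjSpace.toSpec 1 k = C ↘ Spec (CommRingCat.of k))
    (hr : ∀ y : ↥(CohB1.ProjSpace 1 k), Scheme.Hom.finrank f y = 2) :
    ∃ σ : C ⟶ C, σ ≫ (C ↘ Spec (CommRingCat.of k)) = C ↘ Spec (CommRingCat.of k) ∧ σ ≫ σ = 𝟙 C ∧
      Nat.card {x : C // IsClosed ({x} : Set C) ∧ σ x = x} = 2 * Curv2.genus k C + 2 := by
  letI : (P 1 k).Over (Spec (CommRingCat.of k)) := ⟨pr 1 k⟩
  haveI : IsProper ((P 1 k) ↘ Spec (CommRingCat.of k)) := inferInstanceAs (IsProper (pr 1 k))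
  haveI := Groth.L21.RR.isNoetherian_of_proper (X := C) k
  haveI := Groth.L21.RR.isNoetherian_of_proper (X := P 1 k) k
  haveI := Groth.L12.HypSq.isIntegral (k := k) (C := C)
  haveI : LocallyOfFinitePresentation f := inferInstance
  have h2P : IsUnit (2 : Γ(P 1 k, ⊤)) := isUnit_two_sections h2
  obtain ⟨σ, hσf, hσ2, hQ⟩ := Groth.Agent.L13.DblCov.exists_involution f hr h2P
  have h : Groth.L12.SymSq.InvQuot f σ.hom := invQuot_of_isQuot hσ2 hQ h2P
  have hσp : σ.hom ≫ (C ↘ Spec (CommRingCat.of k)) = C ↘ Spec (CommRingCat.of k) := by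
    rw [← hf, ← Category.assoc, hσf]
  have hσ1 : σ.hom ≠ 𝟙 C := by
    intro e
    have hs : ∀ U : (P 1 k).Opens, Function.Bijective (f.app U).hom := fun U =>
      ⟨h.injective U, fun s => h.range U s (by
        rw [Groth.L27.Quot.appLE_eq_of_eq e]
        simp [Scheme.Hom.appLE]
        exact congr($(C.presheaf.map_id (op (f ⁻¹ᵁ U))) s))⟩
    haveI : IsIso f := by
      change MorphismProperty.isomorphisms Scheme f
      rw [HasAffineProperty.iff_of_iSup_eq_top (P := MorphismProperty.isomorphisms Scheme)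
        (fun U : (P 1 k).affineOpens => U) (iSup_affineOpens_eq_top _)]
      intro U
      refine ⟨U.2.preimage f, ?_⟩
      haveI : ∀ V, IsIso (f.app V) := fun V => (ConcreteCategory.isIso_iff_bijective _).2 (hs V)
      rw [morphismRestrict_appTop]
      infer_instance
    have h1 := (Scheme.Hom.isIso_iff_finrank_eq f).1 inferInstance
    have h12 := congrFun h1 (genericPoint (P 1 k))
    rw [hr] at h12
    simp at h12
  have hinvol : σ.hom ≫ σ.hom = 𝟙 C := congrArg Iso.hom hσ2
  refine ⟨σ.hom, hσp, hinvol, ?_⟩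
  haveI : Finite (Subgroup.zpowers σ) := by
    refine ((isOfFinOrder_iff_pow_eq_one).2 ⟨2, by norm_num, ?_⟩).finite_zpowers.to_subtype
    rw [pow_two, hσ2]
  have hsurj : Function.Surjective f := Groth.L27.Quot.surjective hQ
  have hg := four_mul_genus (k := k) Groth.L21.P1.topologicalKrullDim_eq h hf (isFixedScheme_fix hσp)
    (isInvertible_fix hσp hσ1 hdim) hsurj hdim.le
  have hgP : (Curv2.genus k (P 1 k) : ℤ) = 0 := by
    have := Groth.L21.P1.euler_structure k
    rw [Groth.L21.RR.euler_eq k (Groth.L21.P1.topologicalKrullDim_le k),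
      Groth.L22.CurveDeg.h0_structure_eq_one k] at this
    change (1 : ℤ) - (Curv2.genus k (P 1 k) : ℤ) = 1 at this
    omega
  rw [deg_fix hσp hσ1 hdim hinvol h2, card_fix hσp hσ1 hdim, hgP] at hg
  omega

include hdim h2 in
/-- An involution with 2g+2 fixed points gives a double cover of the line. -/
theorem exists_cover_of_involution {σ : C ⟶ C}
    (hσp : σ ≫ (C ↘ Spec (CommRingCat.of k)) = C ↘ Spec (CommRingCat.of k)) (hinvol : σ ≫ σ = 𝟙 C)
    (hcard : Nat.card {x : C // IsClosed ({x} : Set C) ∧ σ x = x} = 2 * Curv2.genus k C + 2) :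
    ∃ f : C ⟶ CohB1.ProjSpace 1 k, f ≫ CohB1.ProjSpace.toSpec 1 k = C ↘ Spec (CommRingCat.of k) ∧ IsFinite f ∧
      Flat f ∧ (∀ y : ↥(CohB1.ProjSpace 1 k), Scheme.Hom.finrank f y = 2) ∧
      ∃ V : C.Opens, (V : Set C).Nonempty ∧ Etale (V.ι ≫ f) := by
  haveI := Groth.L21.RR.isNoetherian_of_proper (X := C) k
  haveI := Groth.L12.HypSq.isIntegral (k := k) (C := C)
  haveI : C.IsSeparated := ⟨by
    rw [show terminal.from C = (C ↘ Spec (CommRingCat.of k)) ≫ terminal.from _ from terminal.hom_ext _ _]
    infer_instance⟩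
  have hcl_of : ∀ x : C, x ≠ genericPoint C → IsClosed ({x} : Set C) := by
    intro x hx
    refine (Groth.L21.CurveTop.finite_of_isClosed hdim.le (isClosed_closure (s := {x})) ?_).2 x (subset_closure rfl)
    intro h
    exact hx ((genericPoint_spec C).eq h).symm
  have hσ1 : σ ≠ 𝟙 C := by
    rintro rfl
    haveI : Finite {x : C // IsClosed ({x} : Set C)} := by
      haveI : Finite {x : C // IsClosed ({x} : Set C) ∧ (𝟙 C : C ⟶ C) x = x} :=
        Nat.finite_of_card_ne_zero (by rw [hcard]; omega)
      exact Finite.of_injective (fun x => (⟨x.1, x.2, rfl⟩ : {x : C // IsClosed ({x} : Set C) ∧ (𝟙 C : C ⟶ C) x = x}))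
        fun a b h => Subtype.ext (congrArg (fun z => z.1) h)
    have hJ : JacobsonSpace ↥C := LocallyOfFiniteType.jacobsonSpace (C ↘ Spec (CommRingCat.of k))
    have hfin : (closedPoints ↥C).Finite := Set.finite_coe_iff.1 (inferInstanceAs (Finite {x : C // IsClosed ({x} : Set C)}))
    have hall : closedPoints ↥C = Set.univ := by
      have := closure_closedPoints (X := ↥C)
      rwa [IsClosed.closure_eq] at this
      rw [← Set.biUnion_of_singleton (closedPoints ↥C)]
      exact hfin.isClosed_biUnion fun x hx => hx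
    have hη : IsClosed ({genericPoint C} : Set C) := by
      show genericPoint C ∈ closedPoints ↥C
      rw [hall]; trivial
    haveI : Subsingleton ↥C := ⟨fun a b => by
      have hz : ∀ z : C, z = genericPoint C := fun z =>
        Set.mem_singleton_iff.1 (hη.closure_eq ▸ (genericPoint_spec C).def ▸ Set.mem_univ z)
      rw [hz a, hz b]⟩
    haveI : Subsingleton (IrreducibleCloseds ↥C) := ⟨fun A B => IrreducibleCloseds.ext (by
      rcases Subsingleton.set_cases (p := fun t : Set ↥C => t = ∅ ∨ t = Set.univ) (Or.inl rfl) (Or.inr rfl) (A : Set ↥C) with h | h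
      · exact absurd h A.isIrreducible.nonempty.ne_empty
      rcases Subsingleton.set_cases (p := fun t : Set ↥C => t = ∅ ∨ t = Set.univ) (Or.inl rfl) (Or.inr rfl) (B : Set ↥C) with h' | h'
      · exact absurd h' B.isIrreducible.nonempty.ne_empty
      rw [h, h'])⟩
    have h0 : topologicalKrullDim ↥C ≤ 0 := Order.krullDim_nonpos_of_subsingleton
    rw [hdim] at h0
    exact absurd h0 (by decide)
  let τ : Aut C := ⟨σ, σ, hinvol, hinvol⟩
  have hτ2 : τ * τ = 1 := Iso.ext hinvol
  haveI : Finite (Subgroup.zpowers τ) := by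
    refine ((isOfFinOrder_iff_pow_eq_one).2 ⟨2, by norm_num, ?_⟩).finite_zpowers.to_subtype
    rw [pow_two, hτ2]
  have hση : σ (genericPoint C) = genericPoint C := by
    by_contra hne
    have hc := hcl_of _ hne
    haveI : IsIso σ := ⟨σ, hinvol, hinvol⟩
    have h1 := σ.homeomorph.isClosedMap _ hc
    rw [Set.image_singleton] at h1
    have e : σ (σ (genericPoint C)) = genericPoint C := by
      rw [← Scheme.Hom.comp_apply, hinvol]; rfl
    change IsClosed ({σ (σ (genericPoint C))} : Set C) at h1
    rw [e] at h1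
    have : σ (genericPoint C) ∈ ({genericPoint C} : Set C) :=
      h1.closure_eq ▸ (genericPoint_spec C).def ▸ Set.mem_univ _
    exact hne this
  obtain ⟨Y, π, hQ⟩ := Groth.L27.Quot.exists_quotient (Subgroup.zpowers τ).subtype fun x => by
    classical
    obtain ⟨U, hU, hgen, hF⟩ := Groth.L22.DimOneAmple.exists_affine_finset hdim.le
      (({x, σ x} : Finset C).filter fun y => IsClosed ({y} : Set C)) fun y hy => (Finset.mem_filter.1 hy).2
    have hmem : ∀ y ∈ ({x, σ x} : Finset C), y ∈ U := by
      intro y hy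
      by_cases hc : IsClosed ({y} : Set C)
      · exact hF y (Finset.mem_filter.2 ⟨hy, hc⟩)
      · have hyη : y = genericPoint C := by
          by_contra hne
          exact hc (hcl_of y hne)
        rw [hyη]
        exact hgen _ fun w hw => (hw.antisymm ((genericPoint_spec C).specializes trivial)).eq
    refine ⟨U, hU, fun g => ?_⟩
    rcases zpowers_two hτ2 g with e | e
    · show g.1.hom x ∈ U
      rw [e]
      exact hmem x (Finset.mem_insert_self _ _)
    · show g.1.hom x ∈ U
      rw [e]
      exact hmem _ (Finset.mem_insert_of_mem (Finset.mem_singleton_self _))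
  have hcardG : Nat.card (Subgroup.zpowers τ) = 2 := by
    have hne : (τ : Aut C) ≠ 1 := fun e => hσ1 (congrArg Iso.hom e)
    have hp : (τ : Aut C) ^ 2 = 1 := by rw [pow_two, hτ2]
    rw [Nat.card_zpowers, orderOf_eq_prime hp hne]
  obtain ⟨q, hq⟩ : ∃ q : Y ⟶ Spec (CommRingCat.of k), π ≫ q = C ↘ Spec (CommRingCat.of k) := by
    obtain ⟨q, hq, -⟩ := Groth.L27.Quot.existsUnique_desc hQ (C ↘ Spec (CommRingCat.of k)) fun g => by
      rcases zpowers_two hτ2 g with e | e <;> show g.1.hom ≫ _ = _ <;> rw [e]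
      · exact Category.id_comp _
      · exact hσp
    exact ⟨q, hq⟩
  letI : Y.Over (Spec (CommRingCat.of k)) := ⟨q⟩
  have hq' : π ≫ (Y ↘ Spec (CommRingCat.of k)) = C ↘ Spec (CommRingCat.of k) := hq
  haveI : IsFinite π := by
    haveI : LocallyOfFiniteType (π ≫ (Y ↘ Spec (CommRingCat.of k))) := by rw [hq']; infer_instance
    exact Groth.L27.Quot.isFinite_of_comp hQ (Y ↘ Spec (CommRingCat.of k))
  have hsurj : Function.Surjective π := Groth.L27.Quot.surjective hQ
  haveI : Surjective π := ⟨hsurj⟩
  haveI : IsProper (Y ↘ Spec (CommRingCat.of k)) := by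
    haveI : IsProper (π ≫ (Y ↘ Spec (CommRingCat.of k))) := by rw [hq']; infer_instance
    haveI : LocallyOfFinitePresentation (π ≫ (Y ↘ Spec (CommRingCat.of k))) := inferInstance
    haveI : IsSeparated (Y ↘ Spec (CommRingCat.of k)) := Groth.L27.Quot.isSeparated_of_comp hQ _
    haveI : LocallyOfFinitePresentation (Y ↘ Spec (CommRingCat.of k)) := by
      refine Groth.L27.Quot.locallyOfFinitePresentation_desc hQ _ ?_
      have hu : IsUnit (2 : k) := isUnit_iff_ne_zero.2 h2
      have := hu.map (Scheme.ΓSpecIso (CommRingCat.of k)).inv.hom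
      rw [map_ofNat] at this
      rw [hcardG, Nat.cast_ofNat]
      exact this
    haveI : UniversallyClosed (Y ↘ Spec (CommRingCat.of k)) := UniversallyClosed.of_comp_surjective π _
    exact ⟨⟩
  haveI : IsIntegral Y := by
    haveI : IsReduced Y := ⟨fun U => isReduced_of_injective (π.app U).hom (hQ.injective U)⟩
    haveI : IrreducibleSpace ↥Y := by
      have hi : IsIrreducible (Set.univ : Set ↥Y) := by
        have := (IrreducibleSpace.isIrreducible_univ ↥C).image π π.continuous.continuousOn
        rwa [Set.image_univ, hsurj.range_eq] at this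
      haveI : PreirreducibleSpace ↥Y := ⟨hi.isPreirreducible⟩
      exact ⟨hi.nonempty.to_type⟩
    exact isIntegral_of_irreducibleSpace_of_isReduced Y
  have h : Groth.L12.SymSq.InvQuot π σ := invQuot_of_isQuot hτ2 hQ (isUnit_two_sections h2)
  have hdimY : topologicalKrullDim ↥Y = 1 := by
    rw [← Groth.L00.topologicalKrullDim_eq_of_isClosedMap π.continuous π.isClosedMap hsurj (fun a b hab e => ?_)]
    · exact hdim
    · obtain ⟨g, hg⟩ := Groth.L27.Quot.exists_eq_of_map_eq hQ e
      change g.1.hom a = b at hg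
      rcases zpowers_two hτ2 g with e' | e' <;> rw [e'] at hg
      · exact hg
      · by_cases ha : IsClosed ({a} : Set C)
        · exact (ha.closure_eq ▸ hab.mem_closure : b ∈ ({a} : Set C)).symm
        · have haη : a = genericPoint C := by
            by_contra hne
            exact ha (hcl_of a hne)
          rw [← hg]
          show a = σ a
          rw [haη, hση]
  have hfix := isFixedScheme_fix hσp
  have hI := isInvertible_fix hσp hσ1 hdim
  have hgY : Curv2.genus k Y = 0 := by
    have hg := four_mul_genus (k := k) hdimY h hq' hfix hI hsurj hdim.le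
    rw [deg_fix hσp hσ1 hdim hinvol h2, card_fix hσp hσ1 hdim, hcard] at hg
    push_cast at hg
    omega
  haveI := Groth.L08.Cube.geometricallyIntegral_of_isAlgClosed (Y ↘ Spec (CommRingCat.of k))
  obtain ⟨e, he⟩ := Groth.Agent.S7834.result k Y hdimY hgY
  letI : (P 1 k).Over (Spec (CommRingCat.of k)) := ⟨pr 1 k⟩
  haveI : IsProper ((P 1 k) ↘ Spec (CommRingCat.of k)) := inferInstanceAs (IsProper (pr 1 k))
  haveI : Smooth ((P 1 k) ↘ Spec (CommRingCat.of k)) := Groth.L16.ProjSpace.smooth_toSpec (n := 1) (R := k)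
  haveI := Groth.L21.RR.isNoetherian_of_proper (X := P 1 k) k
  let f : C ⟶ P 1 k := π ≫ e.hom
  have hf : f ≫ pr 1 k = C ↘ Spec (CommRingCat.of k) := by
    show (π ≫ e.hom) ≫ CohB1.ProjSpace.toSpec 1 k = _
    rw [Category.assoc, he, hq']
  haveI : IsFinite f := inferInstanceAs (IsFinite (π ≫ e.hom))
  have hfs : Function.Surjective f := by
    haveI : Surjective f := inferInstanceAs (Surjective (π ≫ e.hom))
    exact Surjective.surj
  have hnX : ∀ x : C, IsDomain (C.presheaf.stalk x) ∧ IsIntegrallyClosed (C.presheaf.stalk x) := fun x =>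
    ⟨Groth.L21.Smooth.isDomain_stalk (C ↘ Spec (CommRingCat.of k)) x,
      Groth.L21.Smooth.isIntegrallyClosed_stalk (C ↘ Spec (CommRingCat.of k)) x⟩
  have hdom := Groth.L21.P1.map_genericPoint f hdim
  haveI : Flat f := Groth.L21.flat_of_nonconstant (Groth.L21.P1.topologicalKrullDim_le k) Groth.L21.P1.normal_P1 f (by
    obtain ⟨x, -, hx⟩ := (isClosed_univ (X := C)).exists_closed_singleton Set.univ_nonempty
    refine ⟨_, ⟨genericPoint C, rfl⟩, _, ⟨x, rfl⟩, fun hh => ?_⟩
    refine Groth.L21.RR.ne_genericPoint_of_isClosed Groth.L21.P1.topologicalKrullDim_eq ?_ (hh.symm.trans hdom)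
    simpa using f.isClosedMap _ hx)
  obtain ⟨n, hn⟩ := Groth.L21.Disc.exists_rank_push f
  have hdeg := deg_pullback (k := k) Groth.L21.P1.topologicalKrullDim_eq (invQuot_comp_iso h e) hf hfix hI hfs hdim.le
    (Groth.L16.ProjTwist.isInvertible_twistProjSpace 1 k 1)
  obtain rfl : n = 2 := by
    have h1 := (Groth.L21.P1.deg_pullback_O_one f hdim.le hf hn).symm.trans hdeg
    have h3 : Curv2.deg k (P 1 k) (Twist.twistProjSpace 1 k 1) 1 = 1 := by
      show Curv2.euler k (P 1 k) (O k 1) - (1 : ℕ) * Curv2.euler k (P 1 k) (Coh.structureModule (P 1 k)) = 1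
      rw [Groth.L21.P1.euler_O, Groth.L21.P1.euler_structure]
      norm_num
    rw [h3] at h1
    omega
  have h0 := Groth.L22.CurveDeg.h0_structure_eq_one k (X := C)
  obtain ⟨θ⟩ := Groth.L21.P1.exists_iso_push f hf hn h0
  obtain ⟨qd⟩ := Groth.L21.P1.nonempty_quad f (a := Groth.L21.RR.h k 1 (Coh.structureModule C) + 1) (Nat.succ_pos _)
    (eqToIso (by push_cast; rfl) ≪≫ θ)
  have hsep := Groth.L21.P1.isSeparable_of_two_ne_zero_or_Q_ne_zero hdom qd (Or.inl h2)
  refine ⟨f, hf, inferInstance, inferInstance, fun y => Groth.L27.Deg.finrank_eq_of_push f hn y, ?_⟩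
  refine (Groth.Agent.S6554.result k C (P 1 k) hdim Groth.L21.P1.topologicalKrullDim_eq f hf hdom).2.2
    ⟨?_, hsep⟩
  have hfr := Groth.L21.Disc.finrank_functionField f hnX hdom hsep hn
  letI := ((P 1 k).presheaf.stalkSpecializes (specializes_of_eq hdom) ≫ f.stalkMap (genericPoint C)).hom.toAlgebra
  exact FiniteDimensional.of_finrank_eq_succ hfr

end Groth.L12.HypInvol
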