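import Groth.Agent.L12.HypInvol.Fixed
import Groth.Agent.L08.Cube.SliceFibre
import Groth.Agent.L22.DimOneAmple.Affine
import Groth.Agent.L27.Quot.Exists
import Groth.Agent.L21.P1.Pencil
import Groth.Agent.L21.CurveFlat
import Groth.Agent.S7834
import Groth.Agent.S6554

/-! The quotient of a curve by an involution and its genus. -/

set_option autoImplicit false
set_option linter.style.haveILetI false
set_option linter.unusedSectionVars false
set_option backward.isDefEq.respectTransparency false
set_option backward.isDefEq.respectTransparency.types false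

universe u

open CategoryTheory CategoryTheory.Limits AlgebraicGeometry TopologicalSpace Opposite

noncomputable section

namespace Groth.L12.HypInvol

open Groth.L12.SymSq (IsFixedScheme InvQuot)
open Groth.L21.RR (euler_congr deg_congr)
open Groth.L00.Tensor

section InvQuotLemmas

variable {X Y Y' : Scheme.{u}} {π : X ⟶ Y} {τ : X ⟶ X}

/-- A quotient by an involution followed by an isomorphism is again one. -/
theorem invQuot_comp_iso (h : InvQuot π τ) (e : Y ≅ Y') : InvQuot (π ≫ e.hom) τ where
  affine := by haveI := h.affine; infer_instance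
  comp := by rw [← Category.assoc, h.comp]
  invol := h.invol
  injective U := by
    rw [Scheme.Hom.comp_app]
    exact (h.injective _).comp ((ConcreteCategory.bijective_of_isIso (e.hom.app U)).injective)
  range U s hs := by
    obtain ⟨a, ha⟩ := h.range (e.hom ⁻¹ᵁ U) s hs
    obtain ⟨b, hb⟩ := (ConcreteCategory.bijective_of_isIso (e.hom.app U)).surjective a
    refine ⟨b, ?_⟩
    rw [Scheme.Hom.comp_app, CommRingCat.comp_apply, hb]
    exact ha
  two := by
    have := h.two.map e.inv.appTop.hom
    rwa [map_ofNat] at this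

theorem zpowers_two {σ : Aut X} (hσ : σ * σ = 1) : ∀ g : Subgroup.zpowers σ, g.1 = 1 ∨ g.1 = σ := by
  rintro ⟨g, hg⟩
  obtain ⟨n, rfl⟩ := Subgroup.mem_zpowers_iff.mp hg
  show σ ^ n = 1 ∨ σ ^ n = σ
  rw [← Int.mul_ediv_add_emod n 2, zpow_add, zpow_mul, zpow_two, hσ, one_zpow, one_mul]
  rcases Int.emod_two_eq n with e | e <;> simp [e]

/-- A quotient by the group generated by an involution. -/
theorem invQuot_of_isQuot {σ : Aut X} (hσ : σ * σ = 1) (hπ : SGA1.IsQuot (Subgroup.zpowers σ).subtype π)
    (h2 : IsUnit (2 : Γ(Y, ⊤))) : InvQuot π σ.hom where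
  affine := hπ.affine
  comp := hπ.inv ⟨σ, Subgroup.mem_zpowers σ⟩
  invol := congrArg Iso.hom hσ
  injective := hπ.injective
  range U s hs := by
    refine (hπ.range_iff U s).2 fun g => ?_
    rcases zpowers_two hσ g with e | e
    · have hg : g = 1 := Subtype.ext e
      subst hg
      exact congr($(Groth.L27.Quot.act_one hπ.inv U) s)
    · rw [Groth.L27.Quot.appLE_eq_of_eq (congrArg Iso.hom e : ((Subgroup.zpowers σ).subtype g).hom = σ.hom)]
      exact hs
  two := h2

end InvQuotLemmas

variable {k : Type u} [Field k] [IsAlgClosed k]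

theorem isUnit_two_sections (h2 : (2 : k) ≠ 0) {Y : Scheme.{u}} [Y.Over (Spec (CommRingCat.of k))] :
    IsUnit (2 : Γ(Y, ⊤)) := by
  have hu : IsUnit (2 : k) := isUnit_iff_ne_zero.2 h2
  have := hu.map (((Scheme.ΓSpecIso (CommRingCat.of k)).inv ≫ (Y ↘ Spec (CommRingCat.of k)).appTop).hom)
  rwa [map_ofNat] at this

variable {X Y : Scheme.{u}} [X.Over (Spec (CommRingCat.of k))] [Y.Over (Spec (CommRingCat.of k))]
  [IsProper (X ↘ Spec (CommRingCat.of k))] [IsProper (Y ↘ Spec (CommRingCat.of k))] [IsIntegral Y]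
  (hdimY : topologicalKrullDim ↥Y = 1) {π : X ⟶ Y} {τ : X ⟶ X} (h : InvQuot π τ)
  (hq : π ≫ (Y ↘ Spec (CommRingCat.of k)) = X ↘ Spec (CommRingCat.of k))
  {Z : Scheme.{u}} {Δ : Z ⟶ X} (hΔ : IsFixedScheme τ Δ) (hI : PicF.IsInvertible (ClSub.idealMod Δ.ker))
  (hsurj : Function.Surjective π) (hdimX : topologicalKrullDim ↥X ≤ 1)

include hdimY h hq hΔ hI hsurj hdimX in
theorem euler_pullback {M : Y.Modules} (hM : PicF.IsInvertible M) :
    Curv2.euler k X ((Scheme.Modules.pullback π).obj M) =
      Curv2.euler k Y M + Curv2.euler k Y (CohB1.tensorMod M h.anti) := by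
  haveI := Groth.L21.RR.isNoetherian_of_proper (X := X) k
  haveI := Groth.L21.RR.isNoetherian_of_proper (X := Y) k
  haveI : Y.IsSeparated := ⟨by
    rw [show terminal.from Y = (Y ↘ Spec (CommRingCat.of k)) ≫ terminal.from _ from terminal.hom_ext _ _]
    infer_instance⟩
  have hA : PicF.IsInvertible h.anti := h.isInvertible_anti hΔ hI hsurj
  rw [Groth.L21.RR.euler_eq k hdimX, Groth.L21.RR.euler_eq k hdimY.le, Groth.L21.RR.euler_eq k hdimY.le,
    h.h_pullback hq hM hA 0, h.h_pullback hq hM hA 1]
  push_cast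
  ring

include hdimY h hq hΔ hI hsurj hdimX in
/-- Degrees double on pullback. -/
theorem deg_pullback {M : Y.Modules} (hM : PicF.IsInvertible M) :
    Curv2.deg k X ((Scheme.Modules.pullback π).obj M) 1 = 2 * Curv2.deg k Y M 1 := by
  haveI := Groth.L21.RR.isNoetherian_of_proper (X := X) k
  have hA : PicF.IsInvertible h.anti := h.isInvertible_anti hΔ hI hsurj
  have h1 := euler_pullback hdimY h hq hΔ hI hsurj hdimX hM
  have h0 := euler_pullback hdimY h hq hΔ hI hsurj hdimX (Groth.L18.Ample.isInvertible_structureModule Y)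
  rw [euler_congr k (Groth.L29.LocFree.pullbackUnitIso π), euler_congr k (tensorUnitLeft h.anti)] at h0
  have h3 := Groth.L21.Duality.deg_tensor (k := k) hdimY hM hA
  simp only [Curv2.deg, Nat.cast_one, one_mul] at h3 ⊢
  linarith

variable [IsIntegral X]

include hdimY h hq hΔ hI hsurj hdimX in
/-- The genus of a quotient by an involution. -/
theorem four_mul_genus :
    4 * (1 - (Curv2.genus k Y : ℤ)) =
      2 * (1 - (Curv2.genus k X : ℤ)) - Curv2.deg k X (ClSub.idealMod Δ.ker) 1 := by
  haveI := Groth.L21.RR.isNoetherian_of_proper (X := X) k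
  have hA : PicF.IsInvertible h.anti := h.isInvertible_anti hΔ hI hsurj
  obtain ⟨i⟩ := h.nonempty_pullback_anti hΔ hI
  have h1 := euler_pullback hdimY h hq hΔ hI hsurj hdimX hA
  rw [euler_congr k i] at h1
  have h0 := euler_pullback hdimY h hq hΔ hI hsurj hdimX (Groth.L18.Ample.isInvertible_structureModule Y)
  rw [euler_congr k (Groth.L29.LocFree.pullbackUnitIso π), euler_congr k (tensorUnitLeft h.anti)] at h0
  have h3 := Groth.L21.Duality.deg_tensor (k := k) hdimY hA hA
  have eY : Curv2.euler k Y (Coh.structureModule Y) = 1 - (Curv2.genus k Y : ℤ) := by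
    rw [Groth.L21.RR.euler_eq k hdimY.le, Groth.L22.CurveDeg.h0_structure_eq_one k]
    rfl
  have eX : Curv2.euler k X (Coh.structureModule X) = 1 - (Curv2.genus k X : ℤ) := by
    rw [Groth.L21.RR.euler_eq k hdimX, Groth.L22.CurveDeg.h0_structure_eq_one k]
    rfl
  simp only [Curv2.deg, Nat.cast_one, one_mul] at h3 ⊢
  linarith

end Groth.L12.HypInvol
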