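import Groth.Agent.L12.HypSq.Theta
import Groth.Agent.L19.IdealInvertible
import Groth.Agent.L02.RelCartier.CurveRel
import Groth.Agent.L08.Cube.Inverse
import Groth.Agent.L07.SyntDim
import Groth.Agent.L23.SpaceFibreDim
import Groth.Agent.L22.FibreSemicont
import Groth.Agent.S2768

/-! Uniqueness of the hyperelliptic involution, by intersecting graphs on the square. -/

set_option autoImplicit false
set_option linter.style.haveILetI false
set_option linter.unusedSectionVars false
set_option backward.isDefEq.respectTransparency false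
set_option backward.isDefEq.respectTransparency.types false

universe u

open CategoryTheory CategoryTheory.Limits AlgebraicGeometry TopologicalSpace Opposite

noncomputable section

namespace Groth.L12.HypInvol

open Groth.L12.HypSq (Sq graph box pencil)
open Groth.L21.RR (deg_congr)
open Groth.L00.Tensor
open Groth.L29.DC.PullTensor (pullTensor)

/-- A smooth integral curve over a field is smooth of relative dimension one. -/
theorem smoothOfRelativeDimension_one {k : Type u} [Field k] {X : Scheme.{u}} (f : X ⟶ Spec (CommRingCat.of k))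
    [Smooth f] [IsIntegral X] (hdim : topologicalKrullDim ↥X = 1) : SmoothOfRelativeDimension 1 f := by
  letI : X.Over (Spec (CommRingCat.of k)) := ⟨f⟩
  haveI : LocallyOfFiniteType (X ↘ Spec (CommRingCat.of k)) := inferInstanceAs (LocallyOfFiniteType f)
  haveI : Subsingleton ↥(Spec (CommRingCat.of k)) := inferInstanceAs (Subsingleton (PrimeSpectrum k))
  refine ⟨fun x => ?_⟩
  obtain ⟨V, hV, U, hU, hxU, e, hsm⟩ := Smooth.exists_isStandardSmooth f x
  refine ⟨V, hV, U, hU, hxU, e, ?_⟩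
  let φ := f.appLE V U e
  letI : Algebra Γ(Spec (CommRingCat.of k), V) Γ(X, U) := φ.hom.toAlgebra
  haveI : Algebra.IsStandardSmooth Γ(Spec (CommRingCat.of k), V) Γ(X, U) := hsm
  haveI : Nonempty U := ⟨⟨x, hxU⟩⟩
  haveI : Nontrivial Γ(X, U) := inferInstance
  haveI : Module.Free Γ(X, U) Ω[Γ(X, U)⁄Γ(Spec (CommRingCat.of k), V)] := inferInstance
  haveI : Module.Finite Γ(X, U) Ω[Γ(X, U)⁄Γ(Spec (CommRingCat.of k), V)] := inferInstance
  let n := Module.finrank Γ(X, U) Ω[Γ(X, U)⁄Γ(Spec (CommRingCat.of k), V)]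
  haveI hn : Algebra.IsStandardSmoothOfRelativeDimension n Γ(Spec (CommRingCat.of k), V) Γ(X, U) :=
    (Algebra.IsStandardSmoothOfRelativeDimension.iff_of_isStandardSmooth n).mpr (Module.finrank_eq_rank _ _).symm
  suffices h : n = 1 from RingHom.isStandardSmoothOfRelativeDimension_algebraMap 1 |>.mpr (h ▸ hn)
  let g : Spec (CommRingCat.of Γ(X, U)) ⟶ Spec (CommRingCat.of Γ(Spec (CommRingCat.of k), V)) := Spec.map φ
  haveI : SmoothOfRelativeDimension n g := by
    rw [HasRingHomProperty.Spec_iff (P := @SmoothOfRelativeDimension n)]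
    exact RingHom.locally_of (RingHom.isStandardSmoothOfRelativeDimension_respectsIso) _
      (RingHom.isStandardSmoothOfRelativeDimension_algebraMap n |>.mpr hn)
  have h1 := Groth.L07.SyntDim.fibreDimAt_congr f g hU.fromSpec hV.fromSpec
    (IsAffineOpen.SpecMap_appLE_fromSpec f hV hU e).symm (hU.primeIdealOf ⟨x, hxU⟩)
  replace h1 := ((congrArg (FlatMor.fibreDimAt f) (hU.fromSpec_primeIdealOf ⟨x, hxU⟩)).symm.trans h1).trans
    (Groth.Agent.S2768.result n g _)
  rw [Groth.L23.SpDim.fibreDimAt_eq_localDim_of_subsingleton] at h1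
  change FlatMor.localDim ↥X x = _ at h1
  rw [Groth.L22.FibreSemicont.localDim_eq_iSup k] at h1
  have h2 : (⨆ η : {η : X // η ⤳ x}, topologicalKrullDim (closure ({η.1} : Set X))) = 1 := by
    refine le_antisymm (iSup_le fun η => ?_) ?_
    · exact ((Topology.IsEmbedding.subtypeVal).isInducing.topologicalKrullDim_le).trans hdim.le
    · refine le_trans ?_ (le_iSup (fun η : {η : X // η ⤳ x} => topologicalKrullDim (closure ({η.1} : Set X)))
        ⟨genericPoint X, (genericPoint_spec X).specializes trivial⟩)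
      rw [(genericPoint_spec X).def]
      exact hdim.ge.trans (Homeomorph.Set.univ ↥X).symm.isInducing.topologicalKrullDim_le
  rw [h2] at h1
  exact_mod_cast h1.symm

variable {k : Type u} [Field k] {C : Scheme.{u}} [C.Over (Spec (CommRingCat.of k))]
  [IsProper (C ↘ Spec (CommRingCat.of k))] [Smooth (C ↘ Spec (CommRingCat.of k))] [ConnectedSpace ↥C]
  [IsAlgClosed k] (hdim : topologicalKrullDim ↥C = 1)

include hdim in
/-- The ideal of a graph is invertible. -/
theorem exists_graph_inverse {f : C ⟶ C} (hf : f ≫ (C ↘ Spec (CommRingCat.of k)) = C ↘ Spec (CommRingCat.of k)) :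
    ∃ N : (Sq k C).Modules, PicF.IsInvertible N ∧ ClSub.IsInverseOf N (ClSub.idealMod (graph hf).ker) := by
  haveI := HypSq.isIntegral (k := k) (C := C)
  haveI := smoothOfRelativeDimension_one (C ↘ Spec (CommRingCat.of k)) hdim
  haveI : SmoothOfRelativeDimension 1 (pullback.fst (C ↘ Spec (CommRingCat.of k)) (C ↘ Spec (CommRingCat.of k))) :=
    (smoothOfRelativeDimension_isStableUnderBaseChange (n := 1)).of_isPullback
      (IsPullback.of_hasPullback (C ↘ Spec (CommRingCat.of k)) (C ↘ Spec (CommRingCat.of k))).flip inferInstance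
  have h := (Groth.L02.RelCartier.ker_section (pullback.fst (C ↘ Spec (CommRingCat.of k)) (C ↘ Spec (CommRingCat.of k)))
    (graph hf) (pullback.lift_fst _ _ _)).1
  have hI := (Groth.Agent.L19.IdealInvertible.isEffCartier_iff _).2 h
  obtain ⟨N, hN, ⟨e⟩⟩ := Groth.L08.Cube.exists_inverse hI
  exact ⟨N, hN, ⟨tensorComm _ _ ≪≫ e⟩⟩

variable {σ τ : C ⟶ C} (hσp : σ ≫ (C ↘ Spec (CommRingCat.of k)) = C ↘ Spec (CommRingCat.of k))
  (hτp : τ ≫ (C ↘ Spec (CommRingCat.of k)) = C ↘ Spec (CommRingCat.of k))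

theorem exists_graph_notMem (h : τ ≠ σ) : ∃ c : C, graph hτp c ∉ Set.range (graph hσp) := by
  haveI := HypSq.isIntegral (k := k) (C := C)
  by_contra hall
  push Not at hall
  haveI : LocallyOfFiniteType (τ ≫ (C ↘ Spec (CommRingCat.of k))) := by rw [hτp]; infer_instance
  refine h (ext_of_apply_eq (C ↘ Spec (CommRingCat.of k)) Set.univ isOpen_univ.isLocallyClosed
    dense_univ (fun x _ _ => ?_) (hτp.trans hσp.symm))
  obtain ⟨y, hy⟩ := hall x
  have h1 := congrArg (pullback.fst (C ↘ Spec (CommRingCat.of k)) (C ↘ Spec (CommRingCat.of k))) hy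
  have h2 := congrArg (pullback.snd (C ↘ Spec (CommRingCat.of k)) (C ↘ Spec (CommRingCat.of k))) hy
  rw [← Scheme.Hom.comp_apply, ← Scheme.Hom.comp_apply, pullback.lift_fst, pullback.lift_fst] at h1
  rw [← Scheme.Hom.comp_apply, ← Scheme.Hom.comp_apply, pullback.lift_snd, pullback.lift_snd] at h2
  rw [← h2, show y = x from h1]

variable {κ₁ κ₂ : C ⟶ CohB1.ProjSpace 1 k} [IsFinite κ₁] [Flat κ₁] [IsFinite κ₂] [Flat κ₂]

include hdim in
/-- Two hyperelliptic involutions coincide. -/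
theorem eq_of_doubleCovers (hg : 2 ≤ Curv2.genus k C)
    (hκ₁ : κ₁ ≫ CohB1.ProjSpace.toSpec 1 k = (C ↘ Spec (CommRingCat.of k)))
    (hr₁ : ∀ y : ↥(CohB1.ProjSpace 1 k), κ₁.finrank y = 2)
    (hκ₂ : κ₂ ≫ CohB1.ProjSpace.toSpec 1 k = (C ↘ Spec (CommRingCat.of k)))
    (hr₂ : ∀ y : ↥(CohB1.ProjSpace 1 k), κ₂.finrank y = 2)
    (hσ : σ ≫ κ₁ = κ₁) (hσ1 : σ ≠ 𝟙 C) (hτ : τ ≫ κ₂ = κ₂) (hτ1 : τ ≠ 𝟙 C) : σ = τ := by
  haveI := HypSq.isIntegral (k := k) (C := C)
  haveI := Groth.L21.RR.isNoetherian_of_proper (X := C) k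
  have hσp : σ ≫ (C ↘ Spec (CommRingCat.of k)) = C ↘ Spec (CommRingCat.of k) := by
    rw [← hκ₁, ← Category.assoc, hσ]
  have hτp : τ ≫ (C ↘ Spec (CommRingCat.of k)) = C ↘ Spec (CommRingCat.of k) := by
    rw [← hκ₂, ← Category.assoc, hτ]
  haveI := HypSq.isIso_of_comp_eq hdim hκ₂ hr₂ hτ hτp
  obtain ⟨ND, hND, hNDinv⟩ := exists_graph_inverse (k := k) (C := C) hdim (f := 𝟙 C) (Category.id_comp _)
  obtain ⟨N, hN, hNinv⟩ := exists_graph_inverse hdim hσp
  obtain ⟨T, hT, hTinv⟩ := exists_graph_inverse hdim hτp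
  obtain ⟨t₁⟩ := HypSq.nonempty_diag_add_graph hdim hκ₁ hr₁ hσ hσ1 hσp hN hNinv hND hNDinv
  obtain ⟨t₂⟩ := HypSq.nonempty_diag_add_graph hdim hκ₂ hr₂ hτ hτ1 hτp hT hTinv hND hNDinv
  set i := graph hτp with hi
  have hp : ∀ {A : (Sq k C).Modules}, PicF.IsInvertible A → PicF.IsInvertible ((Scheme.Modules.pullback i).obj A) :=
    fun hA => Groth.L18.Ample.isInvertible_pullback i hA
  have hadd : ∀ A B : (Sq k C).Modules, PicF.IsInvertible A → PicF.IsInvertible B →
      Curv2.deg k C ((Scheme.Modules.pullback i).obj (CohB1.tensorMod A B)) 1 =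
        Curv2.deg k C ((Scheme.Modules.pullback i).obj A) 1 + Curv2.deg k C ((Scheme.Modules.pullback i).obj B) 1 :=
    fun A B hA hB => by
      rw [deg_congr k (pullTensor i A B).symm, Groth.L21.Duality.deg_tensor hdim (hp hA) (hp hB)]
  have hbox : ∀ {κ : C ⟶ CohB1.ProjSpace 1 k} [IsFinite κ] [Flat κ],
      κ ≫ CohB1.ProjSpace.toSpec 1 k = (C ↘ Spec (CommRingCat.of k)) → (∀ y, κ.finrank y = 2) →
      Curv2.deg k C ((Scheme.Modules.pullback i).obj (box (k := k) (pencil κ) (pencil κ))) 1 = 4 := by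
    intro κ _ _ h1 h2
    have hL := HypSq.isInvertible_pencil κ
    obtain ⟨e⟩ := HypSq.nonempty_pullback_box hτp (pencil κ) (pencil κ)
    rw [deg_congr k e, Groth.L21.Duality.deg_tensor hdim hL (Groth.L18.Ample.isInvertible_pullback τ hL),
      HypSq.deg_pullback_eq hdim hκ₂ hr₂ hτ hτp hL, HypSq.deg_pencil hdim h1 h2]
    norm_num
  by_contra hne
  obtain ⟨c, hc⟩ := exists_graph_notMem hσp hτp (Ne.symm hne)
  obtain ⟨d⟩ := hNinv
  have hI := Groth.L16.NegPow.isInvertible_inverse hN d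
  have hO := Groth.L18.Ample.isInvertible_structureModule (Sq k C)
  obtain ⟨a, w, hS⟩ := HypSq.exists_seq (graph hσp) hO (tensorUnitLeft (ClSub.idealMod (graph hσp).ker))
  have ha := HypSq.pullback_map_ne_zero (graph hσp) hO a w hS
    (Scheme.Hom.isClosedEmbedding (graph hσp)).isClosed_range i c hc
  obtain ⟨h1, -⟩ := Groth.L22.CurveDeg.deg_add k hdim.le (hp hI) (hp hO) ha
  have hON := hadd N _ hN hI
  rw [deg_congr k ((Scheme.Modules.pullback i).mapIso d ≪≫ Groth.L29.LocFree.pullbackUnitIso i),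
    HypSq.deg_structure'] at hON
  rw [deg_congr k (Groth.L29.LocFree.pullbackUnitIso i), HypSq.deg_structure'] at h1
  have e₁ := hadd ND N hND hN
  have e₂ := hadd ND T hND hT
  rw [deg_congr k ((Scheme.Modules.pullback i).mapIso t₁), hbox hκ₁ hr₁] at e₁
  rw [deg_congr k ((Scheme.Modules.pullback i).mapIso t₂), hbox hκ₂ hr₂, HypSq.deg_normal hτp hT hTinv hdim] at e₂
  omega

end Groth.L12.HypInvol
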